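import Groth.Agent.S7948
import Groth.Agent.Comodule.Antipode
import Mathlib

/-! Finite locally free group schemes over a reduced base are killed by their rank. -/

set_option autoImplicit false
universe u

open CategoryTheory CategoryTheory.Limits AlgebraicGeometry MonObj MonoidalCategory CartesianMonoidalCategory
open TensorProduct WithConv

noncomputable section

namespace Groth.Agent.GrpRedLib

theorem pow_eq_one_affine (R : CommRingCat.{u}) (G : Over (Spec R)) [GrpObj G] [IsFinite G.hom] [Flat G.hom]
    [LocallyOfFinitePresentation G.hom] [IsReduced (Spec R)]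
    (r : ℕ) (hr : ∀ s, Scheme.Hom.finrank G.hom s = r) (T : Over (Spec R)) (g : T ⟶ G) : g ^ r = 1 := by
  haveI : IsAffine G.left := isAffine_of_isAffineHom G.hom
  obtain ⟨H, ⟨e⟩⟩ := (essImage_hopfSpec (R := R) (G := Grp.mk G)).2 (inferInstanceAs (IsAffine G.left))
  let H' := H.unop
  let A : CommRingCat.{u} := CommRingCat.of H'
  letI : HopfAlgebra R A := H'.hopfAlgebra
  let SA := (Spec A).asOver (Spec R)
  let f : SA ≅ G := (Grp.forget _).mapIso e
  haveI : IsMonHom f.hom := inferInstanceAs (IsMonHom e.hom.hom.hom)
  let toG : ∀ X : Over (Spec R), (X ⟶ SA) →* (X ⟶ G) := fun X =>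
    { toFun := fun u => u ≫ f.hom
      map_one' := MonObj.one_comp f.hom
      map_mul' := fun a b => MonObj.mul_comp a b f.hom }
  have hinj : ∀ X, Function.Injective (toG X) := fun X a b h => (cancel_mono f.hom).1 h
  have hw : f.hom.left ≫ G.hom = Spec.map (CommRingCat.ofHom (algebraMap R A)) := Over.w f.hom
  haveI : IsIso f.hom.left := inferInstanceAs (IsIso ((Over.forget _).map f.hom))
  have hfin : IsFinite (Spec.map (CommRingCat.ofHom (algebraMap R A))) :=
    hw ▸ (MorphismProperty.cancel_left_of_respectsIso @IsFinite f.hom.left G.hom).2 ‹_›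
  have hflat : Flat (Spec.map (CommRingCat.ofHom (algebraMap R A))) :=
    hw ▸ (MorphismProperty.cancel_left_of_respectsIso @Flat f.hom.left G.hom).2 ‹_›
  have hlfp : LocallyOfFinitePresentation (Spec.map (CommRingCat.ofHom (algebraMap R A))) :=
    hw ▸ (MorphismProperty.cancel_left_of_respectsIso @LocallyOfFinitePresentation f.hom.left G.hom).2 ‹_›
  haveI : Module.Finite R A := RingHom.finite_algebraMap.1 ((IsFinite.SpecMap_iff _).1 hfin)
  haveI : Module.Flat R A := RingHom.flat_algebraMap_iff.1 ((HasRingHomProperty.Spec_iff (P := @Flat)).1 hflat)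
  haveI : Algebra.FinitePresentation R A := RingHom.finitePresentation_algebraMap.1
    ((HasRingHomProperty.Spec_iff (P := @LocallyOfFinitePresentation)).1 hlfp)
  haveI : Module.FinitePresentation R A := Module.FinitePresentation.of_finite_of_finitePresentation R A
  haveI : Module.Projective R A := Module.Flat.projective_of_finitePresentation
  have hrk : ∀ p : PrimeSpectrum R, Module.rankAtStalk A p = r := fun p => by
    rw [← hr p, ← Scheme.Hom.finrank_SpecMap_algebraMap, ← hw]
    exact congrFun (Scheme.Hom.finrank_comp_left_of_isIso f.hom.left G.hom) p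
  haveI : _root_.IsReduced (R : Type u) := (affine_isReduced_iff R).1 ‹_›
  have hid : (𝟙 SA) ^ r = 1 := by
    have h := Groth.Agent.S7948.result R A r hrk A (AlgHom.id R A)
    have h' := congrArg (Spec.mapMulEquiv (R := R) (S := A) (T := A)) h
    rw [map_pow, map_one] at h'
    have e1 : Spec.mapMulEquiv (R := R) (S := A) (T := A) (toConv (AlgHom.id R A)) = 𝟙 SA :=
      Over.OverMorphism.ext (Spec.map_id _)
    rwa [e1] at h'
  have h : (g ≫ f.inv) ^ r = 1 := by
    rw [← Category.comp_id (g ≫ f.inv), ← MonObj.comp_pow, hid, MonObj.comp_one]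
  have h' := congrArg (toG T) h
  rw [map_pow, map_one] at h'
  simpa [toG] using h'

/-- A finite locally free group scheme over a reduced base of rank `r` is killed by `r`. -/
theorem pow_eq_one_of_finrank {S : Scheme.{u}} (G : Over S) [GrpObj G] [IsReduced S]
    [IsFinite G.hom] [Flat G.hom] [LocallyOfFinitePresentation G.hom]
    (r : ℕ) (hr : ∀ s : S, Scheme.Hom.finrank G.hom s = r) (T : Over S) (g : T ⟶ G) : g ^ r = 1 := by
  refine Over.OverMorphism.ext (Scheme.Cover.hom_ext ((S.affineOpenCover.openCover.pullback₁ T.hom)) _ _ fun j => ?_)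
  let i : Spec (S.affineOpenCover.X j) ⟶ S := S.affineOpenCover.f j
  let G' := (Over.pullback i).obj G
  letI : GrpObj G' := Functor.grpObjObj (F := Over.pullback i) (G := G)
  let T' : Over (Spec (S.affineOpenCover.X j)) := Over.mk (pullback.snd T.hom i)
  let adj := Over.mapPullbackAdj i
  let toG' : ((Over.map i).obj T' ⟶ G) →* (T' ⟶ G') :=
    { toFun := adj.homEquiv _ _
      map_one' := by
        rw [Adjunction.homEquiv_unit, Functor.map_one, MonObj.comp_one]
      map_mul' := fun a b => by
        rw [Adjunction.homEquiv_unit, Adjunction.homEquiv_unit, Adjunction.homEquiv_unit, Functor.map_mul,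
          MonObj.comp_mul] }
  have hinj : Function.Injective toG' := (adj.homEquiv _ _).injective
  let k : (Over.map i).obj T' ⟶ T := Over.homMk (pullback.fst T.hom i) pullback.condition
  haveI : IsReduced (Spec (S.affineOpenCover.X j)) := isReduced_of_isOpenImmersion i
  haveI : IsFinite G'.hom := inferInstanceAs (IsFinite (pullback.snd G.hom i))
  haveI : Flat G'.hom := inferInstanceAs (Flat (pullback.snd G.hom i))
  haveI : LocallyOfFinitePresentation G'.hom := inferInstanceAs (LocallyOfFinitePresentation (pullback.snd G.hom i))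
  have h := pow_eq_one_affine _ G' r (fun s => by
    show Scheme.Hom.finrank (pullback.snd G.hom i) s = r
    rw [Scheme.Hom.finrank_pullback_snd]; exact hr _) T' (toG' (k ≫ g))
  rw [← map_pow, ← map_one toG'] at h
  have h1 := hinj h
  rw [← MonObj.comp_pow, ← MonObj.comp_one k] at h1
  exact congrArg (fun m => m.left) h1

end Groth.Agent.GrpRedLib
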